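import Cfsg.Agent.H431.Rec.Low
import Cfsg.Agent.OrdDiv.Main
import Mathlib

/-!
# The finite check for `PΩ^±_{2m}(q)`, small `m` (helper431)
-/

set_option autoImplicit false

namespace Cfsg.Agent.H431.Rec

open Cfsg.Agent.H367.Rec Cfsg.Agent.OrdDiv

/-- halve the even numbers -/
def bl (M : ℕ) : ℕ := cond (Nat.beq (M % 2) 0) (M / 2) M

/-- odd part (`1` if the fuel is not sufficient) -/
def oddp (M : ℕ) : ℕ := cond (Nat.beq (M / pp 2 700 M % 2) 1) (M / pp 2 700 M) 1

/-- orders of elements (single blocks) -/
def os (pl : Bool) (m q : ℕ) : List ℕ :=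
  oddp (cond pl (q ^ m - 1) (q ^ m + 1)) ::
    ((List.range (m - 1)).map (fun i => bl (q ^ (i + 1) - 1)) ++ (List.range (m - 1)).map (fun i => bl (q ^ (i + 1) + 1)))

/-- numerator of the order -/
def nu (pl : Bool) (m q : ℕ) : ℕ := q * (cond pl (q ^ m - 1) (q ^ m + 1) * prB q (m - 1))

/-- the coclique for `n` -/
def cl0 (n : ℕ) : List ℕ := cond (Nat.blt n 17) [7, 11, 13] (ps127.filter fun p => Nat.blt (n / 2) p && Nat.ble p n)

/-- two missing primes in the coclique -/
def mis (N n : ℕ) : Bool :=
  Nat.blt 2 (cl0 n).length && Nat.blt 1 ((cl0 n).filter fun r => Nat.blt 0 (N % r)).length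

/-- survivors -/
def srv (pl : Bool) (m q n : ℕ) : Bool :=
  cond pl (Nat.ble n 16 && Nat.beq m 4 && Nat.beq q 3) (Nat.ble 17 n && Nat.ble n 18 && Nat.beq m 5 && Nat.beq q 2)

/-- check for one `q` -/
def chk (pl : Bool) (m nmax q : ℕ) : Bool :=
  (os pl m q).any (fun N => Nat.blt nmax (lw N)) ||
    (List.range (nmax + 1)).all (fun n => Nat.blt n 13 || (os pl m q).any (fun N => Nat.blt n (lw N)) ||
      mis (nu pl m q) n || srv pl m q n)

/-- prime powers with exponent at most `9` -/
def isPP (q : ℕ) : Bool := ps127.any fun p => Nat.beq (p ^ 9 % q) 0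

/-- check for all `q < Q` -/
def chkAll (pl : Bool) (m nmax Q : ℕ) : Bool :=
  (List.range Q).all fun q => Nat.blt q 2 || !isPP q || chk pl m nmax q

theorem chk4p : chkAll true 4 46 346 = true := by decide +kernel
theorem chk4m : chkAll false 4 46 346 = true := by decide +kernel
theorem chk5p : chkAll true 5 58 241 = true := by decide +kernel
theorem chk5m : chkAll false 5 58 241 = true := by decide +kernel
theorem chk6p : chkAll true 6 70 194 = true := by decide +kernel
theorem chk6m : chkAll false 6 70 194 = true := by decide +kernel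
theorem chk7p : chkAll true 7 70 81 = true := by decide +kernel
theorem chk7m : chkAll false 7 70 81 = true := by decide +kernel
theorem chk13m : chkAll false 13 126 50 = true := by decide +kernel
theorem chk13p : chkAll true 13 126 50 = true := by decide +kernel

end Cfsg.Agent.H431.Rec
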