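import Cfsg.Agent.H367.Rec.Sg
import Mathlib

/-!
# Computable lower bounds for `sg N` (helper431)

`low ps B N` : the sum of the maximal prime powers of `N` for the primes of the list `ps`, plus `B` if a cofactor
`> 1` is left.  `low_le` : `low ps B N ≤ sg N` when all prime divisors of `N` are in `ps` or `≥ B`.
-/

set_option autoImplicit false

namespace Cfsg.Agent.H431.Rec

open Cfsg.Agent.H367.Rec

theorem beq_t {a b : ℕ} (h : a = b) : Nat.beq a b = true := by
  rw [h]
  exact Nat.beq_refl b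

theorem beq_f {a b : ℕ} (h : a ≠ b) : Nat.beq a b = false := by
  rw [Bool.eq_false_iff]
  exact fun h1 => h (Nat.eq_of_beq_eq_true h1)

/-- the `p`-part (with fuel) -/
def pp (p : ℕ) : ℕ → ℕ → ℕ
  | 0, _ => 1
  | f + 1, N => cond (Nat.beq (N % p) 0) (p * pp p f (N / p)) 1

/-- lower bound for `sg` -/
def low (B f : ℕ) : List ℕ → ℕ → ℕ
  | [], N => cond (Nat.beq N 1) 0 B
  | p :: ps, N =>
    cond (Nat.beq (N / pp p f N % p) 0) 0
      (cond (Nat.beq (pp p f N) 1) (low B f ps N) (pp p f N + low B f ps (N / pp p f N)))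

theorem pp_spec {p : ℕ} (hp : 2 ≤ p) : ∀ (f N : ℕ), N ≠ 0 → ∃ k, pp p f N = p ^ k ∧ p ^ k ∣ N
  | 0, _, _ => ⟨0, rfl, one_dvd _⟩
  | f + 1, N, hN => by
    rw [pp]
    by_cases h : N % p = 0
    · rw [beq_t h, cond_true]
      obtain ⟨c, hc⟩ := Nat.dvd_of_mod_eq_zero h
      have hc0 : c ≠ 0 := by rintro rfl; simp_all
      have h1 : N / p = c := by rw [hc]; exact Nat.mul_div_cancel_left c (by omega)
      obtain ⟨k, hk, hd⟩ := pp_spec hp f c hc0
      refine ⟨k + 1, ?_, ?_⟩
      · rw [h1, hk, pow_succ']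
      · rw [pow_succ', hc]
        exact Nat.mul_dvd_mul_left p hd
    · have h2 : Nat.beq (N % p) 0 = false := by
        rw [Bool.eq_false_iff]
        intro h3
        exact h (Nat.eq_of_beq_eq_true h3)
      rw [h2, cond_false]
      exact ⟨0, rfl, one_dvd _⟩

theorem low_le {B f : ℕ} : ∀ (ps : List ℕ) (N : ℕ), N ≠ 0 → (∀ p ∈ ps, p.Prime) →
    (∀ r : ℕ, r.Prime → r ∣ N → r ∈ ps ∨ B ≤ r) → low B f ps N ≤ sg N
  | [], N, hN, _, h => by
    rw [low]
    by_cases h1 : N = 1
    · rw [h1]
      simp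
    · have h2 : Nat.beq N 1 = false := by
        rw [Bool.eq_false_iff]
        intro h3
        exact h1 (Nat.eq_of_beq_eq_true h3)
      rw [h2, cond_false]
      have hm := Nat.minFac_prime h1
      rcases h _ hm (Nat.minFac_dvd N) with h3 | h3
      · simp at h3
      · calc B ≤ N.minFac := h3
          _ = sg N.minFac := (sg_prime hm).symm
          _ ≤ sg N := sg_le_of_dvd hN (Nat.minFac_dvd N)
  | p :: ps, N, hN, hps, h => by
    rw [low]
    have hp : p.Prime := hps p List.mem_cons_self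
    have hps' : ∀ r ∈ ps, r.Prime := fun r hr => hps r (List.mem_cons_of_mem _ hr)
    obtain ⟨k, hk, hd⟩ := pp_spec hp.two_le f N hN
    obtain ⟨c, hc⟩ := hd
    have hc0 : c ≠ 0 := by rintro rfl; simp_all
    have h1 : N / pp p f N = c := by
      rw [hk, hc]
      exact Nat.mul_div_cancel_left c (pow_pos hp.pos k)
    rw [h1]
    by_cases h2 : c % p = 0
    · rw [beq_t h2, cond_true]
      exact Nat.zero_le _
    have h3 : Nat.beq (c % p) 0 = false := by
      rw [Bool.eq_false_iff]
      intro h4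
      exact h2 (Nat.eq_of_beq_eq_true h4)
    rw [h3, cond_false]
    have hpc : ¬ p ∣ c := fun h4 => h2 (Nat.mod_eq_zero_of_dvd h4)
    have hsub : ∀ r : ℕ, r.Prime → r ∣ c → r ∈ ps ∨ B ≤ r := by
      intro r hr hrc
      rcases h r hr (by rw [hc]; exact hrc.mul_left _) with h4 | h4
      · rcases List.mem_cons.1 h4 with h5 | h5
        · rw [h5] at hrc
          exact absurd hrc hpc
        · exact Or.inl h5
      · exact Or.inr h4
    by_cases h4 : pp p f N = 1
    · rw [beq_t h4, cond_true]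
      have h5 : N = c := by rw [hc, ← hk, h4, one_mul]
      rw [h5]
      exact low_le ps c hc0 hps' hsub
    · have h5 : Nat.beq (pp p f N) 1 = false := by
        rw [Bool.eq_false_iff]
        intro h6
        exact h4 (Nat.eq_of_beq_eq_true h6)
      rw [h5, cond_false, hk]
      have hk0 : k ≠ 0 := by
        rintro rfl
        exact h4 (by rw [hk, pow_zero])
      have hco : Nat.Coprime (p ^ k) c := Nat.Coprime.pow_left k ((Nat.Prime.coprime_iff_not_dvd hp).2 hpc)
      calc p ^ k + low B f ps c ≤ sg (p ^ k) + sg c := by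
            rw [sg_prime_pow hp hk0]
            exact Nat.add_le_add_left (low_le ps c hc0 hps' hsub) _
        _ = sg N := by rw [hc, sg_mul hco]

/-- the primes up to `126` -/
def ps127 : List ℕ := [2, 3, 5, 7, 11, 13, 17, 19, 23, 29, 31, 37, 41, 43, 47, 53, 59, 61, 67, 71, 73, 79, 83, 89, 97,
  101, 103, 107, 109, 113]

theorem ps127_prime : ∀ p ∈ ps127, p.Prime := by
  simp only [ps127, List.mem_cons, List.not_mem_nil, or_false]
  rintro p (rfl | rfl | rfl | rfl | rfl | rfl | rfl | rfl | rfl | rfl | rfl | rfl | rfl | rfl | rfl | rfl | rfl | rfl |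
    rfl | rfl | rfl | rfl | rfl | rfl | rfl | rfl | rfl | rfl | rfl | rfl) <;> norm_num

theorem mem_ps127 {r : ℕ} (hr : r.Prime) : r ∈ ps127 ∨ 127 ≤ r := by
  by_cases h : 127 ≤ r
  · exact Or.inr h
  left
  have h1 : ∀ s < 127, s.Prime → s ∈ ps127 := by decide +kernel
  exact h1 r (by omega) hr

/-- lower bound for `sg` with the primes below `127` -/
def lw (N : ℕ) : ℕ := low 127 700 ps127 N

theorem lw_le {N : ℕ} (hN : N ≠ 0) : lw N ≤ sg N :=
  low_le _ _ hN ps127_prime fun _ hr _ => mem_ps127 hr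

end Cfsg.Agent.H431.Rec
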