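import Cfsg.Agent.H431.Rec.Chk
import Cfsg.Agent.H376.ElimOrth
import Cfsg.Agent.H436.Names
import Mathlib

/-!
# Recognition of `A_n` and `S_n` by spectrum: the rows `PΩ⁺` and `PΩ⁻` (helper431)

`NumFacts` : the number theory used (number of primes in `(n/2, n]`, `sg (cyc e q)`).
-/

set_option autoImplicit false

namespace Cfsg.Agent.H431.Rec

open Finset Cfsg.Agent.H367.Rec Cfsg.Agent.OrdDiv Cfsg.Agent.H436 Cfsg.Agent.H376.Coc Cfsg.Agent.H377
open Cfsg.Agent.H72.AdjOrth hiding sg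
open Cfsg.Agent.H72.AdjCoc

universe u

/-- primes of `(n/2, n]` -/
def omR (n : ℕ) : Finset ℕ := (Finset.Ioc (n / 2) n).filter Nat.Prime

/-- `Φ_e(q)` up to the factor `e` -/
def cycR (e q : ℕ) : ℕ := (q ^ e - 1) / ((q - 1) * Nat.gcd e (q - 1))

/-- the number theory -/
structure NumFacts : Prop where
  table : ∀ n : ℕ, (17 ≤ n → 3 ≤ (omR n).card) ∧ (47 ≤ n → 6 ≤ (omR n).card) ∧ (59 ≤ n → 7 ≤ (omR n).card) ∧
    (71 ≤ n → 9 ≤ (omR n).card) ∧ (107 ≤ n → 12 ≤ (omR n).card) ∧ (181 ≤ n → 18 ≤ (omR n).card) ∧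
    (281 ≤ n → 26 ≤ (omR n).card) ∧ (3900 ≤ n → 240 ≤ (omR n).card)
  large : ∀ n e q : ℕ, 3900 ≤ n → e.Prime → 31 ≤ e → 2 ≤ q → sg (cycR e q) ≤ n → 3 * e + 20 ≤ 2 * (omR n).card
  cyc : ∀ q : ℕ, 2 ≤ q → 107 ≤ sg (cycR 7 q) ∧ 281 ≤ sg (cycR 13 q) ∧ 3900 ≤ sg (cycR 31 q)

/-! ### `cyc e q` -/

theorem geom_dvd {e q : ℕ} (hq : 2 ≤ q) : Nat.gcd e (q - 1) ∣ ∑ i ∈ range e, q ^ i := by
  have h1 : (∑ i ∈ range e, q ^ i) ≡ e [MOD (q - 1)] := by
    have h2 : ∀ i : ℕ, q ^ i ≡ 1 [MOD (q - 1)] := by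
      intro i
      have h3 : q ≡ 1 [MOD (q - 1)] := by
        have h4 : (q - 1) + 1 ≡ 0 + 1 [MOD (q - 1)] := Nat.ModEq.add_right 1 (by simp [Nat.ModEq])
        rwa [zero_add, Nat.sub_add_cancel (by omega)] at h4
      have h5 := h3.pow i
      rwa [one_pow] at h5
    have h6 : ∀ e : ℕ, (∑ i ∈ range e, q ^ i) ≡ e [MOD (q - 1)] := by
      intro e
      induction e with
      | zero => simp [Nat.ModEq]
      | succ e ih => rw [sum_range_succ]; exact ih.add (h2 e)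
    exact h6 e
  have h7 := (h1.of_dvd (Nat.gcd_dvd_right e (q - 1)))
  exact (Nat.modEq_zero_iff_dvd.1 (h7.trans (Nat.modEq_zero_iff_dvd.2 (Nat.gcd_dvd_left e (q - 1)))))

theorem cyc_eq {e q : ℕ} (hq : 2 ≤ q) : cycR e q * Nat.gcd e (q - 1) = ∑ i ∈ range e, q ^ i := by
  rw [cycR, ← Nat.div_div_eq_div_mul, ← Nat.geomSum_eq hq]
  exact Nat.div_mul_cancel (geom_dvd hq)

theorem cyc_dvd {e q : ℕ} (hq : 2 ≤ q) : cycR e q ∣ q ^ e - 1 := by
  have h1 : (∑ i ∈ range e, q ^ i) * (q - 1) = q ^ e - 1 := by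
    rw [Nat.geomSum_eq hq]
    apply Nat.div_mul_cancel
    have := Nat.sub_dvd_pow_sub_pow q 1 e
    rwa [one_pow] at this
  rw [← h1, ← cyc_eq hq, mul_assoc]
  exact Dvd.intro _ rfl

theorem odd_cyc {e q : ℕ} (he : Odd e) (hq : 2 ≤ q) : Odd (cycR e q) := by
  have h1 : Odd (∑ i ∈ range e, q ^ i) := by
    rw [Finset.odd_sum_iff_odd_card_odd]
    rcases Nat.even_or_odd q with h | h
    · have h2 : (range e).filter (fun x => Odd (q ^ x)) = {0} := by
        ext x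
        rw [mem_filter, mem_range, mem_singleton]
        constructor
        · rintro ⟨-, h3⟩
          by_contra h4
          exact (Nat.not_odd_iff_even.2 ((Nat.even_pow.2 ⟨h, h4⟩))) h3
        · rintro rfl
          exact ⟨he.pos, by simp⟩
      rw [h2]
      simp
    · have h2 : (range e).filter (fun x => Odd (q ^ x)) = range e := by
        rw [filter_eq_self]
        exact fun x _ => h.pow
      rw [h2, card_range]
      exact he
  rw [← cyc_eq hq] at h1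
  exact Nat.Odd.of_mul_left h1

theorem cyc_ne {e q : ℕ} (he : 1 ≤ e) (hq : 2 ≤ q) : cycR e q ≠ 0 := by
  intro h
  have h1 := cyc_eq (e := e) hq
  rw [h, zero_mul] at h1
  have h2 : q ^ 0 ≤ ∑ i ∈ range e, q ^ i :=
    single_le_sum (f := fun i => q ^ i) (fun _ _ => Nat.zero_le _) (mem_range.2 he)
  rw [← h1] at h2
  simp at h2

/-! ### the group side -/

/-- `PΩ^δ_{2m}(E)` together with its elements -/
structure OG (S : Type*) [Group S] (E : Type*) [Field E] [Fintype E] (m : ℕ) (δ : ℤ) : Prop where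
  side : OSide S E m δ
  elt : ∀ N : ℕ, Elt2 E m δ N → ∃ g : S, orderOf g = N

theorem og_plus {E : Type*} [Field E] [Fintype E] {m : ℕ} (hm : 4 ≤ m) :
    OG (Cfsg.POmega E (Cfsg.quadFormPlus m E)) E m 1 :=
  ⟨oside_plus hm, fun _ h => h.plus hm⟩

theorem og_minus {E : Type*} [Field E] [Fintype E] {m : ℕ} (hm : 4 ≤ m) {a b : E}
    (hab : ∀ z₁ z₂ : E, z₁ ^ 2 + a * z₁ * z₂ + b * z₂ ^ 2 = 0 → z₁ = 0 ∧ z₂ = 0) :
    OG (Cfsg.POmega E (Cfsg.quadFormMinus (m - 1) E a b)) E m (-1) :=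
  ⟨oside_minus hm hab, fun _ h => h.minus hm hab⟩

theorem OSide.congr' {S T : Type*} [Group S] [Group T] (e : S ≃* T) {E : Type*} [Field E] [Fintype E] {m : ℕ} {δ : ℤ}
    (h : OSide S E m δ) : OSide T E m δ := by
  have hc : Nat.card T = Nat.card S := (Nat.card_congr e.toEquiv).symm
  have hx : ∀ N : ℕ, (∃ g : S, orderOf g = N) → ∃ g : T, orderOf g = N := fun N ⟨g, hg⟩ =>
    ⟨e g, by rw [← hg]; exact orderOf_injective e.toMonoidHom e.injective g⟩
  exact ⟨h.hm, fun s h1 h2 h3 h4 => h.cls s h1 h2 h3 (hc ▸ h4),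
    fun r s h1 h2 h3 h4 => hx _ (h.adj r s h1 h2 h3 h4),
    fun r s h1 h2 h3 h4 h5 h6 h7 h8 h9 => hx _ (h.clq r s h1 h2 h3 h4 h5 h6 h7 h8 h9),
    fun p s h1 h2 h3 h4 h5 h6 h7 => hx _ (h.chr p s h1 h2 h3 h4 h5 h6 h7),
    fun s h1 h2 h3 h4 => hc ▸ h.dvd s h1 h2 h3 h4,
    fun s h1 h2 => hc ▸ h.dvdp s h1 h2, h.delta⟩

theorem OG.congr {S T : Type*} [Group S] [Group T] (e : S ≃* T) {E : Type*} [Field E] [Fintype E] {m : ℕ} {δ : ℤ}
    (h : OG S E m δ) : OG T E m δ :=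
  ⟨OSide.congr' e h.side, fun N hN => by
    obtain ⟨g, hg⟩ := h.elt N hN
    exact ⟨e g, by rw [← hg]; exact orderOf_injective e.toMonoidHom e.injective g⟩⟩

section

variable {S : Type*} [Group S] {E : Type*} [Field E] [Fintype E] {m n : ℕ} {δ : ℤ}

theorem OG.block (H : OG S E m δ) {k M : ℕ} {ε : ℤ} (hkm : k < m) (hε : ε = 1 ∨ ε = -1)
    (h : Elt E k ε M) : ∃ g : S, orderOf g = bl M := by
  have hm := H.side.hm
  have hδ := H.side.delta
  apply H.elt
  unfold bl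
  by_cases h2 : M % 2 = 0
  · rw [beq_t h2, cond_true]
    have h3 := Elt.add_two (n₂ := m - k) (by omega) (mul_pm hε hδ) h (Nat.even_iff.2 h2)
    rwa [← mul_assoc, sq_pm hε, one_mul, show k + (m - k) = m by omega] at h3
  · have h3 : Nat.beq (M % 2) 0 = false := by
      rw [Bool.eq_false_iff]
      intro h4
      exact h2 (Nat.eq_of_beq_eq_true h4)
    rw [h3, cond_false]
    exact Elt.two (by omega) (Nat.odd_iff.2 (by omega)) (elt_extend h hε hδ (by omega))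

theorem OG.sg_block (H : OG S E m δ) (hc : Cand n S) {k M : ℕ} {ε : ℤ} (hkm : k < m) (hε : ε = 1 ∨ ε = -1)
    (h : Elt E k ε M) : sg (bl M) ≤ n := by
  obtain ⟨g, hg⟩ := H.block hkm hε h
  rw [← hg]
  exact hc.sub g

/-- elements of order `cyc e q` -/
theorem OG.sg_cyc (H : OG S E m δ) (hc : Cand n S) {e : ℕ} (he : Odd e) (hem : e < m) :
    sg (cycR e (Nat.card E)) ≤ n := by
  have hq : 2 ≤ Nat.card E := Finite.one_lt_card
  have h1 := H.sg_block hc hem (Or.inl rfl) (elt_tor_plus (F := E) he.pos (cyc_dvd (e := e) hq))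
  have h2 : bl (cycR e (Nat.card E)) = cycR e (Nat.card E) := by
    have h3 := odd_cyc he hq
    unfold bl
    have h4 : Nat.beq (cycR e (Nat.card E) % 2) 0 = false := by
      rw [Bool.eq_false_iff]
      intro h4
      have h5 := Nat.eq_of_beq_eq_true h4
      have h6 := Nat.odd_iff.1 h3
      omega
    rw [h4, cond_false]
  rwa [h2] at h1

/-- the coclique in `S` -/
theorem exists_coc (hc : Cand n S) (h3 : 3 ≤ (omR n).card) :
    ∃ D : Finset ℕ, IsCoc S D ∧ 2 ∉ D ∧ (omR n).card ≤ D.card + 1 := by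
  classical
  have hp : ∀ p ∈ omR n, p.Prime ∧ n / 2 < p ∧ p ≤ n := by
    intro p hp
    rw [omR, mem_filter, mem_Ioc] at hp
    exact ⟨hp.2, hp.1.1, hp.1.2⟩
  have hC : Coc n (omR n) := by
    refine ⟨fun p h => (hp p h).1, fun p h => (hp p h).2.2, fun p h q h' _ => ?_⟩
    have h1 := hp p h
    have h2 := hp q h'
    omega
  refine ⟨(omR n).filter (fun x => x ∣ Nat.card S), ⟨?_, ?_, ?_⟩, ?_, ?_⟩
  · exact fun p h => (hp p (mem_filter.1 h).1).1
  · exact fun p h => (mem_filter.1 h).2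
  · rintro p h q h' hne ⟨g, hg⟩
    have h1 := hc.sub g
    have hpp := hp p (mem_filter.1 h).1
    have hqq := hp q (mem_filter.1 h').1
    rw [hg, sg_mul ((Nat.coprime_primes hpp.1 hqq.1).2 hne), sg_prime hpp.1, sg_prime hqq.1] at h1
    omega
  · intro h
    have h1 := hp 2 (mem_filter.1 h).1
    have h2 : n ≤ 3 := by omega
    have h4 : omR n ⊆ Ioc 1 3 := by
      intro x hx
      have := hp x hx
      have h5 := this.1.two_le
      rw [mem_Ioc]
      omega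
    have h5 := card_le_card h4
    rw [Nat.card_Ioc] at h5
    omega
  · rw [← card_filter_add_card_filter_not (s := omR n) (fun x => x ∣ Nat.card S)]
    have h1 : ((omR n).filter (fun x => ¬ x ∣ Nat.card S)).card ≤ 1 := by
      rw [card_le_one]
      intro a ha b hb
      exact hc.coc (omR n) hC h3 a (mem_filter.1 ha).1 b (mem_filter.1 hb).1
        (mem_filter.1 ha).2 (mem_filter.1 hb).2
    omega

/-- the coclique bound -/
theorem coc_le (H : OSide S E m δ) {C : Finset ℕ} (hC : IsCoc S C) (h2C : 2 ∉ C) :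
    C.card ≤ 4 ∨ C.card ≤ 2 + ((m - 1) / 2 + (m / 2 - (m - (m - 1) / 2) / 2)) ∨
      C.card ≤ 1 + ((m - 1 - (m - 1) / 2) + (m / 2 - ((m - 1) / 2 + 1) / 2)) := by
  have hm := H.hm
  obtain ⟨p, hc⟩ := CharP.exists E
  obtain ⟨f, hp, hf⟩ := FiniteField.card E p
  have hfE : Nat.card E = p ^ (f : ℕ) := by rw [Nat.card_eq_fintype_card, hf]
  have hpE : p ∣ Nat.card E := by rw [hfE]; exact dvd_pow_self p f.ne_zero
  by_cases h : p ∈ C
  · left
    exact H.thr_char hC h hpE (fun h2 => h2C (h2 ▸ h)) h2C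
  · right
    have h1 := H.half hC h2C (fun s hs hd => h (by
      rw [hfE] at hd
      rwa [← (Nat.prime_dvd_prime_iff_eq (hC.prime s hs) hp).1 ((hC.prime s hs).dvd_of_dvd_pow hd)]))
    have h2 := card_cl_le (m - 1 - (m - 1) / 2) (m - 1)
    have h3 := card_cl_le ((m - 1) / 2) (m - 1)
    have h4 := card_topO m δ
    rcases le_max_iff.1 h1 with h5 | h5
    · left; omega
    · right; omega

end

end Cfsg.Agent.H431.Rec
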