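import Cfsg.Agent.H431.Rec.Orth
import Mathlib

/-!
# Recognition of `A_n` and `S_n` by spectrum: `PΩ^±`, soundness of the finite check and the rows (helper431)
-/

set_option autoImplicit false

namespace Cfsg.Agent.H431.Rec

open Finset Cfsg.Agent.H367.Rec Cfsg.Agent.OrdDiv Cfsg.Agent.H436 Cfsg.Agent.H376.Coc Cfsg.Agent.H377
open Cfsg.Agent.H72.AdjOrth hiding sg
open Cfsg.Agent.H72.AdjCoc

universe u

theorem cl0_spec {n : ℕ} (h13 : 13 ≤ n) : (cl0 n).Nodup ∧ (∀ p ∈ cl0 n, p.Prime ∧ p ≤ n ∧
    ∀ q ∈ cl0 n, p ≠ q → n < p + q) := by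
  unfold cl0
  by_cases h : n < 17
  · have h1 : Nat.blt n 17 = true := by simpa [Nat.blt_eq] using h
    rw [h1, cond_true]
    refine ⟨by decide, ?_⟩
    intro p hp
    simp only [List.mem_cons, List.not_mem_nil, or_false] at hp ⊢
    rcases hp with rfl | rfl | rfl
    · exact ⟨by norm_num, by omega, by rintro q (rfl | rfl | rfl) h <;> omega⟩
    · exact ⟨by norm_num, by omega, by rintro q (rfl | rfl | rfl) h <;> omega⟩
    · exact ⟨by norm_num, by omega, by rintro q (rfl | rfl | rfl) h <;> omega⟩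
  · have h1 : Nat.blt n 17 = false := by
      rw [Bool.eq_false_iff]
      intro h2
      exact h (by simpa [Nat.blt_eq] using h2)
    rw [h1, cond_false]
    refine ⟨List.Nodup.filter _ (by decide), ?_⟩
    have h3 : ∀ p ∈ (ps127.filter fun p => Nat.blt (n / 2) p && Nat.ble p n), p.Prime ∧ n / 2 < p ∧ p ≤ n := by
      intro p hp
      rw [List.mem_filter, Bool.and_eq_true] at hp
      exact ⟨ps127_prime p hp.1, by simpa [Nat.blt_eq] using hp.2.1, by simpa using hp.2.2⟩
    intro p hp
    have h4 := h3 p hp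
    refine ⟨h4.1, h4.2.2, fun q hq hne => ?_⟩
    have h5 := h3 q hq
    omega

theorem mis_sound {S : Type*} [Group S] {n N : ℕ} (hc : Cand n S) (h13 : 13 ≤ n)
    (hN : ∀ r : ℕ, r.Prime → r ∣ Nat.card S → r ∣ N) (h : mis N n = true) : False := by
  classical
  obtain ⟨hnd, hsp⟩ := cl0_spec h13
  rw [mis, Bool.and_eq_true] at h
  have h1 : 2 < (cl0 n).length := by simpa [Nat.blt_eq] using h.1
  have h2 : 1 < ((cl0 n).filter fun r => Nat.blt 0 (N % r)).length := by simpa [Nat.blt_eq] using h.2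
  have hC : Coc n (cl0 n).toFinset := by
    refine ⟨fun p h => (hsp p (List.mem_toFinset.1 h)).1, fun p h => (hsp p (List.mem_toFinset.1 h)).2.1,
      fun p h q h' hne => (hsp p (List.mem_toFinset.1 h)).2.2 q (List.mem_toFinset.1 h') hne⟩
  have h3 : 3 ≤ (cl0 n).toFinset.card := by
    rw [List.toFinset_card_of_nodup hnd]
    omega
  have hnd' : ((cl0 n).filter fun r => Nat.blt 0 (N % r)).Nodup := List.Nodup.filter _ hnd
  obtain ⟨a, b, l, hl⟩ : ∃ a b l, ((cl0 n).filter fun r => Nat.blt 0 (N % r)) = a :: b :: l := by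
    rcases hl : ((cl0 n).filter fun r => Nat.blt 0 (N % r)) with _ | ⟨a, _ | ⟨b, l⟩⟩
    · rw [hl] at h2; simp at h2
    · rw [hl] at h2; simp at h2
    · exact ⟨a, b, l, rfl⟩
  have hm : ∀ x ∈ ((cl0 n).filter fun r => Nat.blt 0 (N % r)), x ∈ (cl0 n).toFinset ∧ ¬ x ∣ Nat.card S := by
    intro x hx
    rw [List.mem_filter] at hx
    refine ⟨List.mem_toFinset.2 hx.1, fun hd => ?_⟩
    have h4 := Nat.mod_eq_zero_of_dvd (hN x (hsp x hx.1).1 hd)
    have h5 : 0 < N % x := by simpa [Nat.blt_eq] using hx.2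
    omega
  rw [hl] at hm hnd'
  have ha := hm a (by simp)
  have hb := hm b (by simp)
  have hab := hc.coc _ hC h3 a ha.1 b hb.1 ha.2 hb.2
  rw [List.nodup_cons] at hnd'
  exact hnd'.1 (by rw [hab]; simp)

theorem bl_ne {M : ℕ} (h : M ≠ 0) : bl M ≠ 0 := by
  unfold bl
  by_cases h2 : M % 2 = 0
  · rw [beq_t h2, cond_true]
    omega
  · rw [beq_f h2, cond_false]
    exact h

theorem le_bl (M : ℕ) : M / 2 ≤ bl M := by
  unfold bl
  by_cases h2 : M % 2 = 0
  · rw [beq_t h2, cond_true]
  · rw [beq_f h2, cond_false]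
    omega

theorem oddp_spec {M : ℕ} (h : M ≠ 0) : oddp M ≠ 0 ∧ oddp M ∣ M ∧ Odd (oddp M) := by
  unfold oddp
  by_cases h2 : M / pp 2 700 M % 2 = 1
  · rw [beq_t h2, cond_true]
    obtain ⟨k, hk, hd⟩ := pp_spec (le_refl 2) 700 M h
    rw [← hk] at hd
    refine ⟨by omega, Nat.div_dvd_of_dvd hd, Nat.odd_iff.2 h2⟩
  · rw [beq_f h2, cond_false]
    exact ⟨one_ne_zero, one_dvd _, odd_one⟩

section

variable {S : Type*} [Group S] {E : Type*} [Field E] [Fintype E] {m n : ℕ} {δ : ℤ}

theorem OG.os_le (H : OG S E m δ) (hc : Cand n S) {pl : Bool} (hpl : δ = cond pl 1 (-1)) :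
    ∀ N ∈ os pl m (Nat.card E), N ≠ 0 ∧ sg N ≤ n := by
  have hm := H.side.hm
  have hq : 2 ≤ Nat.card E := Finite.one_lt_card
  have hp : ∀ k, 1 ≤ k → Nat.card E ^ k - 1 ≠ 0 := by
    intro k hk
    have : 1 < Nat.card E ^ k := Nat.one_lt_pow (by omega) (by omega)
    omega
  intro N hN
  rw [os, List.mem_cons, List.mem_append, List.mem_map, List.mem_map] at hN
  rcases hN with rfl | ⟨i, hi, rfl⟩ | ⟨i, hi, rfl⟩
  · cases pl with
    | true =>
      rw [cond_true] at hpl ⊢
      subst hpl
      obtain ⟨h1, h2, h3⟩ := oddp_spec (hp m (by omega))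
      refine ⟨h1, ?_⟩
      obtain ⟨g, hg⟩ := H.elt _ (Elt.two (by omega) h3 (elt_tor_plus (F := E) (by omega) h2))
      rw [← hg]
      exact hc.sub g
    | false =>
      rw [cond_false] at hpl ⊢
      subst hpl
      obtain ⟨h1, h2, h3⟩ := oddp_spec (M := Nat.card E ^ m + 1) (by omega)
      refine ⟨h1, ?_⟩
      obtain ⟨g, hg⟩ := H.elt _ (Elt.two (by omega) h3 (elt_tor_minus (F := E) (by omega) h2))
      rw [← hg]
      exact hc.sub g
  · rw [List.mem_range] at hi
    exact ⟨bl_ne (hp _ (by omega)), H.sg_block hc (k := i + 1) (by omega) (Or.inl rfl)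
      (elt_tor_plus (F := E) (by omega) dvd_rfl)⟩
  · rw [List.mem_range] at hi
    exact ⟨bl_ne (by omega), H.sg_block hc (k := i + 1) (by omega) (Or.inr rfl)
      (elt_tor_minus (F := E) (by omega) dvd_rfl)⟩

/-- **soundness of the finite check** -/
theorem OG.small [Finite S] (H : OG S E m δ) (hc : Cand n S) (hn : 13 ≤ n) {nmax Q : ℕ} (hnm : n ≤ nmax) (h127 : nmax < 127)
    {pl : Bool} (hpl : δ = cond pl 1 (-1))
    (hnu : ∀ r : ℕ, r.Prime → r ∣ Nat.card S → r ∣ nu pl m (Nat.card E))
    (hchk : chkAll pl m nmax Q = true) (hQ : 3 ^ nmax < (Q ^ (m - 1) / 2) ^ 3) (hQ9 : Q ≤ 512) :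
    srv pl m (Nat.card E) n = true := by
  have hm := H.side.hm
  have hos := H.os_le hc hpl
  obtain ⟨p, hcp⟩ := CharP.exists E
  obtain ⟨f, hp, hf⟩ := FiniteField.card E p
  have := Fact.mk hp
  have hfE : Nat.card E = p ^ (f : ℕ) := by rw [Nat.card_eq_fintype_card, hf]
  have hpE : p ∣ Nat.card E := by rw [hfE]; exact dvd_pow_self p f.ne_zero
  -- `p ≤ n`
  have hpn : p ≤ n := by
    have h2 := H.side.dvdp p hp hpE
    obtain ⟨g, hg⟩ := exists_prime_orderOf_dvd_card' (G := S) p h2
    have h3 := hc.sub g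
    rw [hg, sg_prime hp] at h3
    omega
  -- `q < Q`
  have hqQ : Nat.card E < Q := by
    by_contra hlt
    rw [not_lt] at hlt
    have h1 : sg (bl (Nat.card E ^ (m - 1) + 1)) ≤ n :=
      H.sg_block hc (k := m - 1) (by omega) (Or.inr rfl) (elt_tor_minus (F := E) (by omega) dvd_rfl)
    have h2 := pow_three_le (bl_ne (M := Nat.card E ^ (m - 1) + 1) (by omega))
    have h3 : (3 : ℕ) ^ sg (bl (Nat.card E ^ (m - 1) + 1)) ≤ 3 ^ nmax :=
      Nat.pow_le_pow_right (by norm_num) (by omega)
    have h4 : Q ^ (m - 1) / 2 ≤ bl (Nat.card E ^ (m - 1) + 1) := by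
      refine le_trans (Nat.div_le_div_right ?_) (le_bl _)
      exact (Nat.pow_le_pow_left hlt (m - 1)).trans (Nat.le_succ _)
    have h5 := Nat.pow_le_pow_left h4 3
    omega
  have hq2 : 2 ≤ Nat.card E := Finite.one_lt_card
  have hpp : isPP (Nat.card E) = true := by
    rw [isPP, List.any_eq_true]
    refine ⟨p, (mem_ps127 hp).resolve_right (by omega), ?_⟩
    apply beq_t
    apply Nat.mod_eq_zero_of_dvd
    rw [hfE]
    apply pow_dvd_pow
    by_contra hlt
    rw [not_le] at hlt
    have h1 : 2 ^ 10 ≤ p ^ (f : ℕ) :=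
      (Nat.pow_le_pow_left hp.two_le 10).trans (Nat.pow_le_pow_right hp.pos (by omega))
    omega
  rw [chkAll, List.all_eq_true] at hchk
  have h1 := hchk (Nat.card E) (List.mem_range.2 hqQ)
  have h2 : Nat.blt (Nat.card E) 2 = false := by
    rw [Bool.eq_false_iff]
    intro h3
    have : Nat.card E < 2 := by simpa [Nat.blt_eq] using h3
    omega
  rw [h2, hpp, Bool.not_true, Bool.false_or, Bool.false_or, chk, Bool.or_eq_true] at h1
  have hno : ∀ k, n ≤ k → ¬ (os pl m (Nat.card E)).any (fun N => Nat.blt k (lw N)) = true := by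
    intro k hk h3
    rw [List.any_eq_true] at h3
    obtain ⟨N, hN, h4⟩ := h3
    have h5 : k < lw N := by simpa [Nat.blt_eq] using h4
    have h6 := hos N hN
    have h7 := lw_le h6.1
    omega
  rcases h1 with h1 | h1
  · exact absurd h1 (hno nmax hnm)
  · rw [List.all_eq_true] at h1
    have h3 := h1 n (List.mem_range.2 (by omega))
    rw [Bool.or_eq_true, Bool.or_eq_true, Bool.or_eq_true] at h3
    rcases h3 with ((h3 | h3) | h3) | h3
    · have : n < 13 := by simpa [Nat.blt_eq] using h3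
      omega
    · exact absurd h3 (hno n le_rfl)
    · exact (mis_sound hc hn hnu h3).elim
    · exact h3

/-- the primes between `64` and `180` -/
def psB : List ℕ := [67, 71, 73, 79, 83, 89, 97, 101, 103, 107, 109, 113, 127, 131, 137, 139, 149, 151, 157, 163, 167,
  173, 179]

theorem psB_prime : ∀ p ∈ psB, p.Prime := by
  simp only [psB, List.mem_cons, List.not_mem_nil, or_false]
  rintro p (rfl | rfl | rfl | rfl | rfl | rfl | rfl | rfl | rfl | rfl | rfl | rfl | rfl | rfl | rfl | rfl | rfl | rfl |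
    rfl | rfl | rfl | rfl | rfl) <;> norm_num

theorem om127_chk : (List.range 181).all (fun n => Nat.blt n 127 ||
    Nat.ble 13 (psB.filter fun p => Nat.blt (n / 2) p && Nat.ble p n).length) = true := by decide +kernel

theorem om127 (NF : NumFacts) (h : 127 ≤ n) : 13 ≤ (omR n).card := by
  classical
  by_cases h1 : 181 ≤ n
  · have := (NF.table n).2.2.2.2.2.1 h1
    omega
  · have h2 := List.all_eq_true.1 om127_chk n (List.mem_range.2 (by omega))
    rw [Bool.or_eq_true] at h2
    rcases h2 with h2 | h2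
    · have : n < 127 := by simpa [Nat.blt_eq] using h2
      omega
    · have h3 : 13 ≤ (psB.filter fun p => Nat.blt (n / 2) p && Nat.ble p n).length := by simpa using h2
      have hnd : (psB.filter fun p => Nat.blt (n / 2) p && Nat.ble p n).Nodup := List.Nodup.filter _ (by decide)
      rw [← List.toFinset_card_of_nodup hnd] at h3
      refine h3.trans (card_le_card ?_)
      intro p hp
      rw [List.mem_toFinset, List.mem_filter, Bool.and_eq_true] at hp
      have h4 : n / 2 < p := by simpa [Nat.blt_eq] using hp.2.1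
      have h5 : p ≤ n := by simpa using hp.2.2
      rw [omR, mem_filter, mem_Ioc]
      exact ⟨⟨h4, h5⟩, psB_prime p hp.1⟩

set_option maxHeartbeats 2000000 in
/-- **the orthogonal groups of even dimension** -/
theorem OG.main [Finite S] (NF : NumFacts) (H : OG S E m δ) (hc : Cand n S) (hn : 13 ≤ n)
    {pl : Bool} (hpl : δ = cond pl 1 (-1))
    (hnu : ∀ r : ℕ, r.Prime → r ∣ Nat.card S → r ∣ nu pl m (Nat.card E)) :
    srv pl m (Nat.card E) n = true := by
  have hm := H.side.hm
  have hq2 : 2 ≤ Nat.card E := Finite.one_lt_card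
  obtain ⟨t17, t47, t59, t71, t107, t181, t281, t3900⟩ := NF.table n
  have hcoc : 17 ≤ n → (omR n).card ≤ 5 ∨ (omR n).card ≤ 3 + ((m - 1) / 2 + (m / 2 - (m - (m - 1) / 2) / 2)) ∨
      (omR n).card ≤ 2 + ((m - 1 - (m - 1) / 2) + (m / 2 - ((m - 1) / 2 + 1) / 2)) := by
    intro h17
    obtain ⟨D, hD, h2D, hcard⟩ := exists_coc hc (t17 h17)
    rcases coc_le H.side hD h2D with h | h | h
    · left; omega
    · right; left; omega
    · right; right; omega
  rcases Nat.lt_or_ge m 8 with hm8 | hm8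
  · obtain rfl | rfl | rfl | rfl : m = 4 ∨ m = 5 ∨ m = 6 ∨ m = 7 := by omega
    · have hnm : n ≤ 46 := by
        by_contra hlt
        have h1 := hcoc (by omega)
        have h2 := t47 (by omega)
        omega
      cases pl
      · exact H.small hc hn hnm (by norm_num) hpl hnu chk4m (by norm_num) (by norm_num)
      · exact H.small hc hn hnm (by norm_num) hpl hnu chk4p (by norm_num) (by norm_num)
    · have hnm : n ≤ 58 := by
        by_contra hlt
        have h1 := hcoc (by omega)
        have h2 := t59 (by omega)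
        omega
      cases pl
      · exact H.small hc hn hnm (by norm_num) hpl hnu chk5m (by norm_num) (by norm_num)
      · exact H.small hc hn hnm (by norm_num) hpl hnu chk5p (by norm_num) (by norm_num)
    · have hnm : n ≤ 70 := by
        by_contra hlt
        have h1 := hcoc (by omega)
        have h2 := t71 (by omega)
        omega
      cases pl
      · exact H.small hc hn hnm (by norm_num) hpl hnu chk6m (by norm_num) (by norm_num)
      · exact H.small hc hn hnm (by norm_num) hpl hnu chk6p (by norm_num) (by norm_num)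
    · have hnm : n ≤ 70 := by
        by_contra hlt
        have h1 := hcoc (by omega)
        have h2 := t71 (by omega)
        omega
      cases pl
      · exact H.small hc hn hnm (by norm_num) hpl hnu chk7m (by norm_num) (by norm_num)
      · exact H.small hc hn hnm (by norm_num) hpl hnu chk7p (by norm_num) (by norm_num)
  · obtain ⟨c7, c13, c31⟩ := NF.cyc (Nat.card E) hq2
    have h7 := H.sg_cyc hc (e := 7) (by decide) (by omega)
    have h107 : 107 ≤ n := c7.trans h7
    have h1 := hcoc (by omega)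
    have h2 := t107 h107
    rcases Nat.lt_or_ge m 14 with hm14 | hm14
    · have hm13 : m = 13 := by omega
      subst hm13
      have hnm : n ≤ 126 := by
        by_contra hlt
        have h3 := om127 NF (n := n) (by omega)
        omega
      cases pl
      · exact H.small hc hn hnm (by norm_num) hpl hnu chk13m (by norm_num) (by norm_num)
      · exact H.small hc hn hnm (by norm_num) hpl hnu chk13p (by norm_num) (by norm_num)
    · exfalso
      have h13 := H.sg_cyc hc (e := 13) (by decide) (by omega)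
      have h3 := t281 (c13.trans h13)
      have hm32 : 32 ≤ m := by omega
      have h31 := H.sg_cyc hc (e := 31) (by decide) (by omega)
      have hn3900 : 3900 ≤ n := c31.trans h31
      have h4 := t3900 hn3900
      obtain ⟨e, he, h5, h6⟩ := Nat.exists_prime_lt_and_le_two_mul ((m - 1) / 2) (by omega)
      have h7 := H.sg_cyc hc (e := e) (he.odd_of_ne_two (by omega)) (by omega)
      have h8 := NF.large n e (Nat.card E) hn3900 he (by omega) hq2 h7
      omega

end

theorem nu_of {pl : Bool} {m q c d : ℕ} (h : d * c = q ^ (m * (m - 1)) * (cond pl (q ^ m - 1) (q ^ m + 1) * prB q (m - 1)))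
    {r : ℕ} (hr : r.Prime) (hd : r ∣ c) : r ∣ nu pl m q := by
  have h1 : r ∣ q ^ (m * (m - 1)) * (cond pl (q ^ m - 1) (q ^ m + 1) * prB q (m - 1)) := by
    rw [← h]
    exact hd.mul_left d
  rw [nu]
  rcases hr.dvd_mul.1 h1 with h2 | h2
  · exact (hr.dvd_of_dvd_pow h2).mul_right _
  · exact h2.mul_left _

theorem row_oplus (NF : NumFacts) {S : Type u} [Group S] [Finite S] {n d q : ℕ} (hn : 13 ≤ n)
    (hS : IsNamed (.oplus d q) S) (h : Cand n S) : Surv n (.oplus d q) := by
  obtain ⟨⟨F, hF, hF', hcard, ⟨e⟩⟩, hcond, heq, -⟩ := hS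
  have hq : Nat.card F = q := by rw [Nat.card_eq_fintype_card, hcard]
  have H : OG S F d 1 := OG.congr e.symm (og_plus hcond.1)
  have h1 := H.main NF h hn (pl := true) rfl (fun r hr hd => by
    rw [hq]
    exact nu_of (pl := true) heq hr hd)
  rw [hq, srv, cond_true, Bool.and_eq_true, Bool.and_eq_true] at h1
  exact ⟨by simpa using h1.1.1, Nat.eq_of_beq_eq_true h1.1.2, Nat.eq_of_beq_eq_true h1.2⟩

theorem row_ominus (NF : NumFacts) {S : Type u} [Group S] [Finite S] {n d q : ℕ} (hn : 13 ≤ n)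
    (hS : IsNamed (.ominus d q) S) (h : Cand n S) : Surv n (.ominus d q) := by
  obtain ⟨⟨F, hF, hF', a, b, hcard, hab, ⟨e⟩⟩, hcond, heq, -⟩ := hS
  have hq : Nat.card F = q := by rw [Nat.card_eq_fintype_card, hcard]
  have H : OG S F d (-1) := OG.congr e.symm (og_minus hcond.1 hab)
  have h1 := H.main NF h hn (pl := false) rfl (fun r hr hd => by
    rw [hq]
    exact nu_of (pl := false) heq hr hd)
  rw [hq, srv, cond_false, Bool.and_eq_true, Bool.and_eq_true, Bool.and_eq_true] at h1
  exact ⟨by simpa using h1.1.1.1, by simpa using h1.1.1.2, Nat.eq_of_beq_eq_true h1.1.2, Nat.eq_of_beq_eq_true h1.2⟩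

end Cfsg.Agent.H431.Rec
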