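import Cfsg.Agent.H431.Rec.OrthB
import Cfsg.Agent.H152.Rec.Num
import Mathlib

/-!
# S3397 / S3446: the rows `PΩ⁺_{2d}(q)` and `PΩ⁻_{2d}(q)` (helper431)

`numFacts` : the number theory (helper152); `row_oplus'`, `row_ominus'` : the rows without hypotheses.
-/

set_option autoImplicit false

namespace Cfsg.Agent.H431.Rec

open Cfsg.Agent.H367.Rec Cfsg.Agent.OrdDiv Cfsg.Agent.H436

universe u

theorem numFacts : NumFacts where
  table := fun n => by
    obtain ⟨h17, -, -, h47, h59, h71, h107, h181, h281, -, h3900⟩ := Cfsg.Agent.H152.Rec.om_table (n := n)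
    exact ⟨h17, h47, h59, h71, h107, h181, h281, h3900⟩
  large := fun _ _ _ h1 h2 h3 h4 h5 => Cfsg.Agent.H152.Rec.om_large h1 h3 h2 h4 h5
  cyc := fun _ h => Cfsg.Agent.H152.Rec.cyc_table h

theorem row_oplus' {S : Type u} [Group S] [Finite S] {n d q : ℕ} (hn : 13 ≤ n)
    (hS : IsNamed (.oplus d q) S) (h : Cand n S) : Surv n (.oplus d q) := row_oplus numFacts hn hS h

theorem row_ominus' {S : Type u} [Group S] [Finite S] {n d q : ℕ} (hn : 13 ≤ n)
    (hS : IsNamed (.ominus d q) S) (h : Cand n S) : Surv n (.ominus d q) := row_ominus numFacts hn hS h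

end Cfsg.Agent.H431.Rec
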